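import Mathlib
import Groth.Prelude.Def_Wider
import Groth.Agent.Lib.InjMod.Noetherian
import Groth.Agent.Lib.InjMod.Matlis

/-!
# Injective modules as unions of modules finite over artinian algebras
-/

set_option autoImplicit false
universe u

open CategoryTheory CategoryTheory.Limits

namespace GrothLib.InjColim

variable {A : Type u} [CommRing A] [IsNoetherianRing A] {J : Type u} [AddCommGroup J] [Module A J]

omit [IsNoetherianRing A] in
/-- The power quotient of a localisation at a prime is artinian. -/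
theorem isArtinianRing_quot [IsNoetherianRing A] (p : Ideal A) [p.IsPrime] (n : ℕ) :
    IsArtinianRing (Localization.AtPrime p ⧸ IsLocalRing.maximalIdeal (Localization.AtPrime p) ^ n) := by
  rw [isArtinianRing_iff_krullDimLE_zero]
  refine Ring.KrullDimLE.mk₀ fun P hP => ?_
  set q := Ideal.Quotient.mk (IsLocalRing.maximalIdeal (Localization.AtPrime p) ^ n)
  have hle : IsLocalRing.maximalIdeal (Localization.AtPrime p) ≤ P.comap q := by
    refine Ideal.IsPrime.le_of_pow_le (n := n) fun x hx => ?_
    rw [Ideal.mem_comap, Ideal.Quotient.eq_zero_iff_mem.2 hx]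
    exact P.zero_mem
  have hmax : (P.comap q).IsMaximal := by
    rw [← (IsLocalRing.maximalIdeal.isMaximal _).eq_of_le (Ideal.IsPrime.ne_top inferInstance) hle]
    infer_instance
  rw [← Ideal.map_comap_of_surjective q Ideal.Quotient.mk_surjective P]
  refine (Ideal.map_eq_top_or_isMaximal_of_surjective q Ideal.Quotient.mk_surjective hmax).resolve_left ?_
  rw [Ideal.map_comap_of_surjective q Ideal.Quotient.mk_surjective P]
  exact hP.ne_top

variable {Λ : Type u} (E : Λ → Submodule A J) (p : Λ → Ideal A) [hp : ∀ i, (p i).IsPrime]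

/-- the generators lying in the `i`-th component -/
def gen (X : Finset (Σ i : Λ, E i)) (i : Λ) : Set J := {y | ∃ z ∈ X, z.1 = i ∧ (z.2 : J) = y}

/-- the saturation of the span of the generators in the `i`-th component -/
def part (X : Finset (Σ i : Λ, E i)) (i : Λ) : Submodule A J where
  carrier := {y | y ∈ E i ∧ ∃ s ∉ p i, s • y ∈ Submodule.span A (gen E X i)}
  add_mem' := fun {y y'} ⟨hy, s, hs, hy1⟩ ⟨hy', s', hs', hy2⟩ => ⟨add_mem hy hy', s * s',
    (hp i).mul_notMem hs hs', by
      rw [smul_add]
      refine add_mem ?_ ?_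
      · rw [mul_comm, mul_smul]; exact Submodule.smul_mem _ _ hy1
      · rw [mul_smul]; exact Submodule.smul_mem _ _ hy2⟩
  zero_mem' := ⟨zero_mem _, 1, fun h => (hp i).ne_top ((Ideal.eq_top_iff_one _).2 h), by simp⟩
  smul_mem' := fun c y ⟨hy, s, hs, hy1⟩ => ⟨Submodule.smul_mem _ _ hy, s, hs, by
    rw [smul_comm]; exact Submodule.smul_mem _ _ hy1⟩

/-- the index set of the components involved -/
noncomputable def supp (X : Finset (Σ i : Λ, E i)) : Finset Λ := by
  classical exact X.image Sigma.fst

/-- the submodule attached to a finite set of generators -/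
noncomputable def tot (X : Finset (Σ i : Λ, E i)) : Submodule A J := ⨆ i : supp E X, part E p X i

omit [IsNoetherianRing A] in
theorem tot_mono : Monotone (tot E p) := by
  classical
  intro X Y h
  refine iSup_le fun i => ?_
  have hmem : (i : Λ) ∈ supp E Y := Finset.image_subset_image h i.2
  refine le_trans ?_ (le_iSup (fun j : supp E Y => part E p Y j) ⟨i, hmem⟩)
  rintro y ⟨hy, s, hs, hys⟩
  refine ⟨hy, s, hs, Submodule.span_mono ?_ hys⟩
  rintro _ ⟨z, hz, hzi, rfl⟩
  exact ⟨z, h hz, hzi, rfl⟩

open scoped Classical in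
theorem exists_artinian_tot (hint : DirectSum.IsInternal E)
    (hunit : ∀ i, ∀ s ∉ p i, Function.Bijective fun y : E i => s • y)
    (htor : ∀ i, LocCoh.IsPowerTorsion (p i) (E i)) (X : Finset (Σ i : Λ, E i)) :
    ∃ (B : Type u) (_ : CommRing B) (_ : Algebra A B) (_ : IsArtinianRing B)
      (_ : Module B (tot E p X)) (_ : IsScalarTower A B (tot E p X)),
      Module.Finite B (tot E p X) := by
  classical
  choose nn hnn using htor
  let n : ℕ := X.sup fun z => nn z.1 z.2
  let S := supp E X
  let M : S → Submodule A J := fun i => part E p X i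
  have hMle : ∀ i, M i ≤ E i := fun i y hy => hy.1
  let L : S → Type u := fun i => Localization.AtPrime (p i)
  -- structure over the localisations
  have hloc : ∀ i : S, IsLocalizedModule (p i).primeCompl (LinearMap.id : M i →ₗ[A] M i) := fun i =>
    { map_units := fun s => by
        rw [Module.End.isUnit_iff]
        constructor
        · intro y y' h
          have h1 : (s : A) • (⟨y.1, hMle i y.2⟩ : E i) = (s : A) • ⟨y'.1, hMle i y'.2⟩ :=
            Subtype.ext (congrArg (fun w : M i => (w : J)) h)
          exact Subtype.ext (congrArg (fun w : E i => (w : J)) ((hunit i s s.2).1 h1))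
        · rintro ⟨y, hy, t, ht, hty⟩
          obtain ⟨z, hz⟩ := (hunit i s s.2).2 ⟨y, hy⟩
          have hz' : (s : A) • (z : J) = y := congrArg Subtype.val hz
          refine ⟨⟨z, z.2, t * s, (hp i).mul_notMem ht s.2, ?_⟩, Subtype.ext hz'⟩
          rwa [mul_smul, hz']
      surj := fun y => ⟨(y, 1), one_smul _ y⟩
      exists_of_eq := fun {y y'} h => ⟨1, congrArg _ h⟩ }
  let e : ∀ i : S, LocalizedModule (p i).primeCompl (M i) ≃ₗ[A] M i := fun i =>
    haveI := hloc i
    IsLocalizedModule.iso (p i).primeCompl LinearMap.id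
  letI iL : ∀ i : S, Module (L i) (M i) := fun i => (e i).symm.toAddEquiv.module (L i)
  have hLsmul : ∀ (i : S) (c : L i) (y : M i), c • y = e i (c • (e i).symm y) := fun i c y => rfl
  have tL : ∀ i : S, IsScalarTower A (L i) (M i) := fun i => ⟨fun a c y => by
    rw [hLsmul, hLsmul, smul_assoc, map_smul]⟩
  -- killed by a power of the maximal ideal
  have hkill : ∀ i : S, Module.IsTorsionBySet (L i) (M i)
      (IsLocalRing.maximalIdeal (L i) ^ n : Ideal (L i)) := by
    intro i
    have hA : ∀ a ∈ (p i) ^ n, ∀ y : M i, a • y = 0 := by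
      rintro a ha ⟨y, hy, s, hs, hys⟩
      have h0 : ∀ w ∈ Submodule.span A (gen E X i), a • w = 0 := fun w hw => by
        induction hw using Submodule.span_induction with
        | mem w hw =>
          obtain ⟨z, hz, hzi, rfl⟩ := hw
          have hza : a ∈ (p z.1) ^ nn z.1 z.2 := by
            rw [show p z.1 = p i from congrArg p hzi]; exact Ideal.pow_le_pow_right (Finset.le_sup (f := fun z => nn z.1 z.2) hz) ha
          exact congrArg Subtype.val (hnn z.1 z.2 a hza)
        | zero => simp
        | add u v _ _ hu hv => rw [smul_add, hu, hv, add_zero]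
        | smul c u _ hu => rw [smul_comm, hu, smul_zero]
      have h1 := h0 _ hys
      rw [smul_comm] at h1
      have h2 : s • (⟨a • y, Submodule.smul_mem _ _ hy⟩ : E i) = s • (0 : E i) := by
        rw [smul_zero]; exact Subtype.ext h1
      exact Subtype.ext (congrArg (fun w : E i => (w : J)) ((hunit i s hs).1 h2))
    intro y c
    obtain ⟨c, hc⟩ := c
    show c • y = 0
    have hc' : c ∈ ((p i) ^ n).map (algebraMap A (L i)) := by
      rw [Ideal.map_pow, Localization.AtPrime.map_eq_maximalIdeal]
      exact hc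
    clear hc
    induction hc' using Submodule.span_induction with
    | mem c hc =>
      obtain ⟨a, ha, rfl⟩ := hc
      rw [algebraMap_smul]
      exact hA a ha y
    | zero => exact zero_smul _ _
    | add c c' _ _ h h' => rw [add_smul, h, h', add_zero]
    | smul r c _ h => rw [smul_eq_mul, mul_smul, h, smul_zero]
  let Q : S → Type u := fun i => L i ⧸ IsLocalRing.maximalIdeal (L i) ^ n
  letI iQ : ∀ i : S, Module (Q i) (M i) := fun i => (hkill i).module
  have tQ : ∀ i : S, IsScalarTower A (Q i) (M i) := fun i => (hkill i).isScalarTower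
  haveI : ∀ i : S, IsArtinianRing (Q i) := fun i => isArtinianRing_quot (p i) n
  letI iPi : Module (∀ i, Q i) (∀ i, M i) := Pi.module'
  -- the sum map
  let Φ : (∀ i, M i) →ₗ[A] J := LinearMap.lsum A _ A fun i => (M i).subtype
  have hΦsum : ∀ y, Φ y = ∑ i, (y i : J) := fun y => by simp [Φ]
  have hΦinj : Function.Injective Φ := by
    rw [← LinearMap.ker_eq_bot, LinearMap.ker_eq_bot']
    intro y hy
    funext j
    let π := DFinsupp.lapply (R := A) (M := fun i => E i) (j : Λ) ∘ₗ
      (LinearEquiv.ofBijective (DirectSum.coeLinearMap E) hint).symm.toLinearMap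
    have h1 := congrArg π hy
    rw [hΦsum, map_sum, map_zero, Finset.sum_eq_single j] at h1
    · have h2 : π (y j : J) = ⟨y j, hMle j (y j).2⟩ :=
        hint.ofBijective_coeLinearMap_same ⟨y j, hMle j (y j).2⟩
      rw [h2] at h1
      exact Subtype.ext (congrArg (fun w : E j => (w : J)) h1)
    · intro i _ hij
      exact hint.ofBijective_coeLinearMap_of_ne (fun h => hij (Subtype.ext h)) ⟨y i, hMle i (y i).2⟩
    · intro h; exact absurd (Finset.mem_univ j) h
  have hrange : LinearMap.range Φ = tot E p X := by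
    refine le_antisymm ?_ (iSup_le fun i z hz => ?_)
    · rintro _ ⟨y, rfl⟩
      rw [hΦsum]
      exact Submodule.sum_mem _ fun i _ => Submodule.mem_iSup_of_mem i (y i).2
    · refine ⟨Pi.single i ⟨z, hz⟩, ?_⟩
      rw [hΦsum, Finset.sum_eq_single i (fun j _ hj => by simp [hj])
        (fun h => absurd (Finset.mem_univ i) h)]
      simp
  let ψ : tot E p X ≃ₗ[A] ∀ i, M i := ((LinearEquiv.ofInjective Φ hΦinj).trans
    (LinearEquiv.ofEq _ _ hrange)).symm
  letI iT : Module (∀ i, Q i) (tot E p X) := ψ.toAddEquiv.module (∀ i, Q i)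
  have hBsmul : ∀ (c : ∀ i, Q i) (y : tot E p X), c • y = ψ.symm (c • ψ y) := fun c y => rfl
  have tT : IsScalarTower A (∀ i, Q i) (tot E p X) := ⟨fun a c y => by
    rw [hBsmul, hBsmul, ← ψ.symm.map_smul a]
    congr 1
    funext i
    exact smul_assoc a (c i) (ψ y i)⟩
  refine ⟨∀ i, Q i, inferInstance, inferInstance, inferInstance, iT, tT, ?_⟩
  -- finitely generated
  have hz : ∀ z : X, ∃ w : ∀ i, M i, ∀ i : S, (w i : J) = if (i : Λ) = z.1.1 then (z.1.2 : J) else 0 := by
    intro z
    refine ⟨fun i => if h : (i : Λ) = z.1.1 then ⟨(z.1.2 : J), by rw [h]; exact z.1.2.2, 1,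
      fun h1 => (hp i).ne_top ((Ideal.eq_top_iff_one _).2 h1),
      by rw [one_smul]; exact Submodule.subset_span ⟨z.1, z.2, h.symm, rfl⟩⟩ else 0, fun i => ?_⟩
    simp only
    split_ifs <;> rfl
  choose w hw using hz
  refine ⟨⟨Finset.univ.image fun z => ψ.symm (w z), eq_top_iff.2 fun y _ => ?_⟩⟩
  have hcomp : ∀ i : S, ∃ c : X → Q i, ψ y i = ∑ z, c z • w z i := by
    intro i
    obtain ⟨hyE, s, hs, hys⟩ := (ψ y i).2
    have hsub : gen E X i ⊆ Set.range fun z : X => (w z i : J) := by
      rintro _ ⟨z, hz, hzi, rfl⟩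
      exact ⟨⟨z, hz⟩, (hw _ i).trans (if_pos hzi.symm)⟩
    obtain ⟨a, ha⟩ := (Submodule.mem_span_range_iff_exists_fun A).1 (Submodule.span_mono hsub hys)
    refine ⟨fun z => Ideal.Quotient.mk _ (IsLocalization.mk' (L i) (a z) (⟨s, hs⟩ : (p i).primeCompl)), ?_⟩
    refine (Module.End.isUnit_iff _ |>.1 ((hloc i).map_units ⟨s, hs⟩)).1 ?_
    show s • ψ y i = s • _
    rw [Module.End.one_apply, Finset.smul_sum]
    refine Subtype.ext ?_
    rw [Submodule.coe_smul, ← ha, Submodule.coe_sum]
    refine Finset.sum_congr rfl fun z _ => ?_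
    show a z • (w z i : J) = ((s • ((Ideal.Quotient.mk _ (IsLocalization.mk' (L i) (a z) _) : Q i) • w z i) : M i) : J)
    rw [← smul_assoc]
    have e1 : s • (Ideal.Quotient.mk _ (IsLocalization.mk' (L i) (a z) (⟨s, hs⟩ : (p i).primeCompl)) : Q i) =
        algebraMap A (Q i) (a z) := by
      rw [Algebra.smul_def, IsScalarTower.algebraMap_apply A (L i) (Q i),
        IsScalarTower.algebraMap_apply A (L i) (Q i) (a z), Ideal.Quotient.algebraMap_eq, ← map_mul]
      exact congrArg _ (IsLocalization.mk'_spec' (L i) (a z) (⟨s, hs⟩ : (p i).primeCompl))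
    rw [e1, algebraMap_smul]
    rfl
  choose c hc using hcomp
  have hy : y = ∑ z : X, (fun i => c i z) • ψ.symm (w z) := by
    simp only [hBsmul, LinearEquiv.apply_symm_apply, ← map_sum]
    apply ψ.injective
    rw [LinearEquiv.apply_symm_apply]
    funext i
    rw [hc i, Finset.sum_apply]
    rfl
  rw [hy]
  exact Submodule.sum_mem _ fun z _ => Submodule.smul_mem _ _
    (Submodule.subset_span (Finset.mem_coe.2 (Finset.mem_image_of_mem _ (Finset.mem_univ z))))

/-- Every injective module is a filtered colimit of modules finite over artinian algebras. -/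
theorem exists_filtered_artinian (hJ : Module.Injective A J) :
    ∃ (ι : Type u) (_ : SmallCategory ι) (_ : IsFiltered ι) (D : ι ⥤ ModuleCat.{u} A)
      (c : Cocone D) (_ : IsColimit c), Nonempty (c.pt ≅ ModuleCat.of A J) ∧
      ∀ i : ι, ∃ (B : Type u) (_ : CommRing B) (_ : Algebra A B) (_ : IsArtinianRing B)
        (_ : Module B (D.obj i)) (_ : IsScalarTower A B (D.obj i)), Module.Finite B (D.obj i) := by
  classical
  obtain ⟨Λ, E, hint, hE⟩ := GrothLib.InjMod.exists_decomposition J hJ
  choose p hp f hf using fun i => GrothLib.InjMod.exists_prime_hull_of_indecomposable (hE i).1 (hE i).2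
  have hunit : ∀ i, ∀ s ∉ p i, Function.Bijective fun y : E i => s • y := by
    intro i s hs
    have hinj : Function.Injective fun y : E i => s • y := by
      intro y y' h
      have h' : s • y = s • y' := h
      by_contra hne
      let K := LinearMap.ker (s • LinearMap.id : E i →ₗ[A] E i)
      have hK : K ≠ ⊥ := fun hb => hne (sub_eq_zero.1 (by
        have hm : y - y' ∈ K := by simp [K, smul_sub, h']
        rwa [hb, Submodule.mem_bot] at hm))
      refine (hf i).essential K hK (eq_bot_iff.2 ?_)
      rintro _ ⟨hxK, r, rfl⟩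
      obtain ⟨r, rfl⟩ := Submodule.Quotient.mk_surjective _ r
      have h1 : f i (s • Submodule.Quotient.mk r) = 0 := by rw [map_smul]; exact hxK
      have h2 : s * r ∈ p i := (Submodule.Quotient.mk_eq_zero _).1 ((hf i).injective (h1.trans (map_zero _).symm))
      rw [Submodule.mem_bot, (Submodule.Quotient.mk_eq_zero _).2 (((hp i).mem_or_mem h2).resolve_left hs), map_zero]
    refine ⟨hinj, fun y => ?_⟩
    obtain ⟨g, hg⟩ := (hE i).2.out (s • LinearMap.id : E i →ₗ[A] E i) hinj LinearMap.id
    refine ⟨g y, ?_⟩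
    show s • g y = y
    rw [← map_smul]
    exact hg y
  have htor : ∀ i, LocCoh.IsPowerTorsion (p i) (E i) := fun i => GrothLib.Matlis.isPowerTorsion_of_hull (hf i)
  let ι := Finset (Σ i : Λ, E i)
  let D : ι ⥤ ModuleCat.{u} A :=
    { obj := fun X => ModuleCat.of A (tot E p X)
      map := fun h => ModuleCat.ofHom (Submodule.inclusion (tot_mono E p (leOfHom h))) }
  let c : Cocone D :=
    { pt := ModuleCat.of A J
      ι := { app := fun X => ModuleCat.ofHom (tot E p X).subtype
             naturality := fun _ _ _ => rfl } }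
  have hcov : ∀ x : J, ∃ X : ι, x ∈ tot E p X := by
    intro x
    have hx : x ∈ ⨆ i, E i := by rw [hint.submodule_iSup_eq_top]; trivial
    induction hx using Submodule.iSup_induction' with
    | mem i x hx =>
      refine ⟨{⟨i, ⟨x, hx⟩⟩}, ?_⟩
      refine Submodule.mem_iSup_of_mem ⟨i, Finset.mem_image_of_mem Sigma.fst (Finset.mem_singleton_self (⟨i, ⟨x, hx⟩⟩ : Σ i, E i))⟩ ?_
      exact ⟨hx, 1, fun h => (hp i).ne_top ((Ideal.eq_top_iff_one _).2 h), by
        rw [one_smul]; exact Submodule.subset_span ⟨_, Finset.mem_singleton_self _, rfl, rfl⟩⟩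
    | zero => exact ⟨∅, zero_mem _⟩
    | add x y _ _ hx hy =>
      obtain ⟨X, hX⟩ := hx
      obtain ⟨Y, hY⟩ := hy
      exact ⟨X ∪ Y, add_mem (tot_mono E p Finset.subset_union_left hX)
        (tot_mono E p Finset.subset_union_right hY)⟩
  choose N hN using hcov
  have hwd : ∀ (s : Cocone D) (X Y : ι) (x : J) (hX : x ∈ tot E p X) (hY : x ∈ tot E p Y),
      (s.ι.app X).hom ⟨x, hX⟩ = (s.ι.app Y).hom ⟨x, hY⟩ := by
    intro s X Y x hX hY
    have hl : X ≤ X ∪ Y := Finset.subset_union_left
    have hr : Y ≤ X ∪ Y := Finset.subset_union_right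
    rw [← s.w (homOfLE hl), ← s.w (homOfLE hr)]
    rfl
  let desc : ∀ s : Cocone D, c.pt ⟶ s.pt := fun s => ModuleCat.ofHom
    { toFun := fun x => (s.ι.app (N x)).hom ⟨x, hN x⟩
      map_add' := fun x y => by
        have hx : x ∈ tot E p (N x ∪ N y) := tot_mono E p Finset.subset_union_left (hN x)
        have hy : y ∈ tot E p (N x ∪ N y) := tot_mono E p Finset.subset_union_right (hN y)
        rw [hwd s _ (N x ∪ N y) _ (hN (x + y)) (add_mem hx hy), hwd s _ (N x ∪ N y) _ (hN x) hx,
          hwd s _ (N x ∪ N y) _ (hN y) hy, ← map_add]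
        rfl
      map_smul' := fun a x => by
        rw [hwd s _ (N x) _ (hN (a • x)) (Submodule.smul_mem _ a (hN x)), RingHom.id_apply, ← map_smul]
        rfl }
  refine ⟨ι, inferInstance, inferInstance, D, c,
    { desc := desc
      fac := fun s X => ModuleCat.hom_ext (LinearMap.ext fun x => hwd s _ X x.1 (hN x.1) x.2)
      uniq := fun s m hm => ModuleCat.hom_ext (LinearMap.ext fun x => by
        show m.hom x = (s.ι.app (N x)).hom ⟨x, hN x⟩
        rw [← hm (N x)]
        rfl) }, ⟨Iso.refl _⟩, fun X => ?_⟩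
  exact exists_artinian_tot E p hint hunit htor X

end GrothLib.InjColim
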